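import Cfsg.Agent.Lib.KnownSimple.MultC.Trie

/-!
# The table
-/

set_option autoImplicit false

namespace Cfsg.Agent.Lib.KnownSimple.MultM.J2L

open Cfsg.Agent.Lib.KnownSimple.MultC

set_option maxRecDepth 1000000 in
/-- The table of the letters. -/
def tb : ZN := (.node 0 (.node 0 (.node 0 (.node 0 (.node 4 (.node 8 (.node 17 (.node 32 (.node 59 (.node 51 .nil .nil) (.node 36 .nil .nil)) (.node 76 (.node 52 .nil .nil) (.node 58 .nil .nil))) (.node 47 (.node 11 (.node 82 .nil .nil) (.node 83 .nil .nil)) (.node 17 (.node 37 .nil .nil) (.node 80 .nil .nil)))) (.node 3 (.node 40 (.node 54 (.node 68 .nil .nil) (.node 39 .nil .nil)) (.node 56 (.node 31 .nil .nil) (.node 95 .nil .nil))) (.node 8 (.node 14 (.node 25 .nil .nil) (.node 94 .nil .nil)) (.node 84 (.node 73 .nil .nil) (.node 99 .nil .nil))))) (.node 4 (.node 2 (.node 36 (.node 62 (.node 79 .nil .nil) (.node 39 .nil .nil)) (.node 79 (.node 52 .nil .nil) (.node 84 .nil .nil))) (.node 11 (.node 18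 (.node 37 .nil .nil) (.node 84 .nil .nil)) (.node 46 (.node 89 .nil .nil) (.node 88 .nil .nil)))) (.node 4 (.node 36 (.node 62 (.node 23 .nil .nil) (.node 64 .nil .nil)) (.node 75 (.node 68 .nil .nil) (.node 86 .nil .nil))) (.node 55 (.node 76 (.node 30 .nil .nil) (.node 53 .nil .nil)) (.node 19 (.node 43 .nil .nil) .nil))))) (.node 5 (.node 10 (.node 7 (.node 34 (.node 9 (.node 20 .nil .nil) (.node 38 .nil .nil)) (.node 26 (.node 88 .nil .nil) (.node 90 .nil .nil))) (.node 6 (.node 12 (.node 25 .nil .nil) (.node 83 .nil .nil)) (.node 45 (.node 92 .nil .nil) (.node 85 .nil .nil)))) (.node 10 (.node 40 (.node 10 (.node 55 .nil .nil) (.node 97 .nil .nil)) (.node 16 (.node 67 .nil .nil) (.node 93 .nil .nil))) (.node 54 (.node 75 (.node 61 .nil .nil) (.node 98 .nil .nil)) (.node 48 (.node 44 .nil .nil) (.node 99 .nil .nil))))) (.node 14 (.node 23 (.node 15 (.node 60 (.node 69 .nil .nil) (.node 72 .nil .nil)) (.node 16 (.node 29 .nil .nil) (.node 66 .nil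 .nil))) (.node 7 (.node 71 (.node 29 .nil .nil) (.node 75 .nil .nil)) (.node 19 (.node 34 .nil .nil) (.node 81 .nil .nil)))) (.node 31 (.node 35 (.node 67 (.node 56 .nil .nil) (.node 49 .nil .nil)) (.node 77 (.node 53 .nil .nil) (.node 78 .nil .nil))) (.node 55 (.node 54 (.node 77 .nil .nil) (.node 64 .nil .nil)) (.node 65 (.node 35 .nil .nil) .nil)))))) (.node 2 (.node 0 (.node 9 (.node 18 (.node 5 (.node 9 (.node 51 .nil .nil) (.node 63 .nil .nil)) (.node 70 (.node 64 .nil .nil) (.node 71 .nil .nil))) (.node 49 (.node 32 (.node 57 .nil .nil) (.node 47 .nil .nil)) (.node 18 (.node 38 .nil .nil) (.node 91 .nil .nil)))) (.node 25 (.node 42 (.node 65 (.node 28 .nil .nil) (.node 84 .nil .nil)) (.node 41 (.node 91 .nil .nil) (.node 94 .nil .nil))) (.node 22 (.node 71 (.node 74 .nil .nil) (.node 86 .nil .nil)) (.node 19 (.node 34 .nil .nil) (.node 99 .nil .nil))))) (.node 13 (.node 22 (.node 37 (.node 32 (.node 50 .nil .nil) (.node 58 .nil .nil)) (.node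 40 (.node 81 .nil .nil) (.node 67 .nil .nil))) (.node 21 (.node 33 (.node 25 .nil .nil) (.node 48 .nil .nil)) (.node 19 (.node 92 .nil .nil) (.node 92 .nil .nil)))) (.node 30 (.node 44 (.node 30 (.node 51 .nil .nil) (.node 65 .nil .nil)) (.node 16 (.node 69 .nil .nil) (.node 75 .nil .nil))) (.node 57 (.node 59 (.node 90 .nil .nil) (.node 99 .nil .nil)) (.node 21 (.node 85 .nil .nil) .nil))))) (.node 7 (.node 12 (.node 21 (.node 13 (.node 29 (.node 21 .nil .nil) (.node 43 .nil .nil)) (.node 15 (.node 29 .nil .nil) (.node 62 .nil .nil))) (.node 7 (.node 22 (.node 78 .nil .nil) (.node 80 .nil .nil)) (.node 82 (.node 35 .nil .nil) (.node 86 .nil .nil)))) (.node 3 (.node 6 (.node 59 (.node 86 .nil .nil) (.node 73 .nil .nil)) (.node 42 (.node 54 .nil .nil) (.node 72 .nil .nil))) (.node 8 (.node 14 (.node 26 .nil .nil) (.node 87 .nil .nil)) (.node 49 (.node 35 .nil .nil) .nil)))) (.node 16 (.node 25 (.node 39 (.node 28 (.node 87 .nil .nil) (.node 95 .nil .nil))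 (.node 16 (.node 45 .nil .nil) (.node 72 .nil .nil))) (.node 49 (.node 72 (.node 63 .nil .nil) (.node 58 .nil .nil)) (.node 83 (.node 81 .nil .nil) (.node 98 .nil .nil)))) (.node 4 (.node 6 (.node 31 (.node 57 .nil .nil) (.node 91 .nil .nil)) (.node 74 (.node 69 .nil .nil) (.node 79 .nil .nil))) (.node 9 (.node 70 (.node 28 .nil .nil) (.node 58 .nil .nil)) (.node 50 (.node 38 .nil .nil) .nil))))))) (.node 0 (.node 1 (.node 1 (.node 1 (.node 2 (.node 12 (.node 60 (.node 56 .nil .nil) (.node 76 .nil .nil)) (.node 77 (.node 42 .nil .nil) (.node 71 .nil .nil))) (.node 48 (.node 68 (.node 57 .nil .nil) (.node 83 .nil .nil)) (.node 17 (.node 92 .nil .nil) (.node 96 .nil .nil)))) (.node 27 (.node 41 (.node 64 (.node 37 .nil .nil) (.node 80 .nil .nil)) (.node 41 (.node 67 .nil .nil) (.node 97 .nil .nil))) (.node 22 (.node 18 (.node 27 .nil .nil) (.node 55 .nil .nil)) (.node 85 (.node 93 .nil .nil) (.node 88 .nil .nil))))) (.node 4 (.node 3 (.node 5 (.node 45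 (.node 63 .nil .nil) (.node 62 .nil .nil)) (.node 40 (.node 77 .nil .nil) (.node 96 .nil .nil))) (.node 51 (.node 69 (.node 79 .nil .nil) (.node 47 .nil .nil)) (.node 46 (.node 79 .nil .nil) (.node 80 .nil .nil)))) (.node 15 (.node 44 (.node 11 (.node 24 .nil .nil) (.node 43 .nil .nil)) (.node 43 (.node 68 .nil .nil) (.node 94 .nil .nil))) (.node 56 (.node 36 (.node 78 .nil .nil) (.node 88 .nil .nil)) (.node 87 (.node 75 .nil .nil) .nil))))) (.node 6 (.node 11 (.node 20 (.node 13 (.node 12 (.node 38 .nil .nil) (.node 65 .nil .nil)) (.node 78 (.node 28 .nil .nil) (.node 74 .nil .nil))) (.node 20 (.node 32 (.node 89 .nil .nil) (.node 91 .nil .nil)) (.node 66 (.node 34 .nil .nil) (.node 78 .nil .nil)))) (.node 29 (.node 5 (.node 26 (.node 55 .nil .nil) (.node 95 .nil .nil)) (.node 42 (.node 32 .nil .nil) (.node 73 .nil .nil))) (.node 23 (.node 30 (.node 59 .nil .nil) (.node 85 .nil .nil)) (.node 86 (.node 90 .nil .nil) .nil)))) (.node 15 (.node 24 (.node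 11 (.node 10 (.node 21 .nil .nil) (.node 59 .nil .nil)) (.node 15 (.node 66 .nil .nil) (.node 71 .nil .nil))) (.node 53 (.node 13 (.node 90 .nil .nil) (.node 96 .nil .nil)) (.node 73 (.node 93 .nil .nil) (.node 98 .nil .nil)))) (.node 12 (.node 33 (.node 31 (.node 42 .nil .nil) (.node 57 .nil .nil)) (.node 66 (.node 33 .nil .nil) (.node 89 .nil .nil))) (.node 8 (.node 14 (.node 60 .nil .nil) (.node 54 .nil .nil)) (.node 20 (.node 76 .nil .nil) .nil)))))) (.node 3 (.node 1 (.node 10 (.node 19 (.node 33 (.node 39 (.node 31 .nil .nil) (.node 77 .nil .nil)) (.node 14 (.node 81 .nil .nil) (.node 60 .nil .nil))) (.node 46 (.node 27 (.node 89 .nil .nil) (.node 83 .nil .nil)) (.node 27 (.node 37 .nil .nil) (.node 96 .nil .nil)))) (.node 28 (.node 43 (.node 66 (.node 88 .nil .nil) (.node 40 .nil .nil)) (.node 64 (.node 67 .nil .nil) (.node 93 .nil .nil))) (.node 22 (.node 74 (.node 53 .nil .nil) (.node 48 .nil .nil)) (.node 24 (.node 61 .nil .nil) (.node 99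 .nil .nil))))) (.node 2 (.node 23 (.node 38 (.node 9 (.node 61 .nil .nil) (.node 96 .nil .nil)) (.node 80 (.node 44 .nil .nil) (.node 82 .nil .nil))) (.node 52 (.node 70 (.node 61 .nil .nil) (.node 87 .nil .nil)) (.node 18 (.node 68 .nil .nil) (.node 87 .nil .nil)))) (.node 20 (.node 45 (.node 30 (.node 41 .nil .nil) (.node 82 .nil .nil)) (.node 81 (.node 69 .nil .nil) (.node 74 .nil .nil))) (.node 48 (.node 70 (.node 62 .nil .nil) (.node 97 .nil .nil)) (.node 53 (.node 94 .nil .nil) .nil))))) (.node 7 (.node 1 (.node 2 (.node 35 (.node 61 (.node 65 .nil .nil) (.node 95 .nil .nil)) (.node 63 (.node 50 .nil .nil) (.node 90 .nil .nil))) (.node 50 (.node 13 (.node 85 .nil .nil) (.node 84 .nil .nil)) (.node 46 (.node 89 .nil .nil) (.node 97 .nil .nil)))) (.node 3 (.node 6 (.node 36 (.node 24 .nil .nil) (.node 98 .nil .nil)) (.node 56 (.node 72 .nil .nil) (.node 93 .nil .nil))) (.node 8 (.node 17 (.node 27 .nil .nil) (.node 49 .nil .nil)) (.node 82 (.node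 94 .nil .nil) .nil)))) (.node 17 (.node 26 (.node 5 (.node 63 (.node 23 .nil .nil) (.node 52 .nil .nil)) (.node 41 (.node 91 .nil .nil) (.node 70 .nil .nil))) (.node 33 (.node 73 (.node 60 .nil .nil) (.node 97 .nil .nil)) (.node 47 (.node 47 .nil .nil) (.node 98 .nil .nil)))) (.node 26 (.node 46 (.node 51 (.node 24 .nil .nil) (.node 45 .nil .nil)) (.node 44 (.node 34 .nil .nil) (.node 92 .nil .nil))) (.node 58 (.node 52 (.node 39 .nil .nil) (.node 95 .nil .nil)) (.node 50 (.node 76 .nil .nil) .nil)))))))) (.node 0 (.node 0 (.node 1 (.node 1 (.node 1 (.node 2 (.node 12 (.node 60 (.node 56 .nil .nil) (.node 76 .nil .nil)) (.node 77 (.node 42 .nil .nil) (.node 71 .nil .nil))) (.node 48 (.node 68 (.node 57 .nil .nil) (.node 83 .nil .nil)) (.node 17 (.node 92 .nil .nil) (.node 96 .nil .nil)))) (.node 27 (.node 41 (.node 64 (.node 37 .nil .nil) (.node 80 .nil .nil)) (.node 41 (.node 67 .nil .nil) (.node 97 .nil .nil))) (.node 22 (.node 18 (.node 27 .nil .nil)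 (.node 55 .nil .nil)) (.node 85 (.node 93 .nil .nil) (.node 88 .nil .nil))))) (.node 4 (.node 3 (.node 5 (.node 45 (.node 63 .nil .nil) (.node 62 .nil .nil)) (.node 40 (.node 77 .nil .nil) (.node 96 .nil .nil))) (.node 51 (.node 69 (.node 79 .nil .nil) (.node 47 .nil .nil)) (.node 46 (.node 79 .nil .nil) (.node 80 .nil .nil)))) (.node 15 (.node 44 (.node 11 (.node 24 .nil .nil) (.node 43 .nil .nil)) (.node 43 (.node 68 .nil .nil) (.node 94 .nil .nil))) (.node 56 (.node 36 (.node 78 .nil .nil) (.node 88 .nil .nil)) (.node 87 (.node 75 .nil .nil) .nil))))) (.node 6 (.node 11 (.node 20 (.node 13 (.node 12 (.node 38 .nil .nil) (.node 65 .nil .nil)) (.node 78 (.node 28 .nil .nil) (.node 74 .nil .nil))) (.node 20 (.node 32 (.node 89 .nil .nil) (.node 91 .nil .nil)) (.node 66 (.node 34 .nil .nil) (.node 78 .nil .nil)))) (.node 29 (.node 5 (.node 26 (.node 55 .nil .nil) (.node 95 .nil .nil)) (.node 42 (.node 32 .nil .nil) (.node 73 .nil .nil))) (.node 23 (.node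 30 (.node 59 .nil .nil) (.node 85 .nil .nil)) (.node 86 (.node 90 .nil .nil) .nil)))) (.node 15 (.node 24 (.node 11 (.node 10 (.node 21 .nil .nil) (.node 59 .nil .nil)) (.node 15 (.node 66 .nil .nil) (.node 71 .nil .nil))) (.node 53 (.node 13 (.node 90 .nil .nil) (.node 96 .nil .nil)) (.node 73 (.node 93 .nil .nil) (.node 98 .nil .nil)))) (.node 12 (.node 33 (.node 31 (.node 42 .nil .nil) (.node 57 .nil .nil)) (.node 66 (.node 33 .nil .nil) (.node 89 .nil .nil))) (.node 8 (.node 14 (.node 60 .nil .nil) (.node 54 .nil .nil)) (.node 20 (.node 76 .nil .nil) .nil)))))) (.node 3 (.node 1 (.node 10 (.node 19 (.node 33 (.node 39 (.node 31 .nil .nil) (.node 77 .nil .nil)) (.node 14 (.node 81 .nil .nil) (.node 60 .nil .nil))) (.node 46 (.node 27 (.node 89 .nil .nil) (.node 83 .nil .nil)) (.node 27 (.node 37 .nil .nil) (.node 96 .nil .nil)))) (.node 28 (.node 43 (.node 66 (.node 88 .nil .nil) (.node 40 .nil .nil)) (.node 64 (.node 67 .nil .nil) (.node 93 .nil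 .nil))) (.node 22 (.node 74 (.node 53 .nil .nil) (.node 48 .nil .nil)) (.node 24 (.node 61 .nil .nil) (.node 99 .nil .nil))))) (.node 2 (.node 23 (.node 38 (.node 9 (.node 61 .nil .nil) (.node 96 .nil .nil)) (.node 80 (.node 44 .nil .nil) (.node 82 .nil .nil))) (.node 52 (.node 70 (.node 61 .nil .nil) (.node 87 .nil .nil)) (.node 18 (.node 68 .nil .nil) (.node 87 .nil .nil)))) (.node 20 (.node 45 (.node 30 (.node 41 .nil .nil) (.node 82 .nil .nil)) (.node 81 (.node 69 .nil .nil) (.node 74 .nil .nil))) (.node 48 (.node 70 (.node 62 .nil .nil) (.node 97 .nil .nil)) (.node 53 (.node 94 .nil .nil) .nil))))) (.node 7 (.node 1 (.node 2 (.node 35 (.node 61 (.node 65 .nil .nil) (.node 95 .nil .nil)) (.node 63 (.node 50 .nil .nil) (.node 90 .nil .nil))) (.node 50 (.node 13 (.node 85 .nil .nil) (.node 84 .nil .nil)) (.node 46 (.node 89 .nil .nil) (.node 97 .nil .nil)))) (.node 3 (.node 6 (.node 36 (.node 24 .nil .nil) (.node 98 .nil .nil)) (.node 56 (.node 72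 .nil .nil) (.node 93 .nil .nil))) (.node 8 (.node 17 (.node 27 .nil .nil) (.node 49 .nil .nil)) (.node 82 (.node 94 .nil .nil) .nil)))) (.node 17 (.node 26 (.node 5 (.node 63 (.node 23 .nil .nil) (.node 52 .nil .nil)) (.node 41 (.node 91 .nil .nil) (.node 70 .nil .nil))) (.node 33 (.node 73 (.node 60 .nil .nil) (.node 97 .nil .nil)) (.node 47 (.node 47 .nil .nil) (.node 98 .nil .nil)))) (.node 26 (.node 46 (.node 51 (.node 24 .nil .nil) (.node 45 .nil .nil)) (.node 44 (.node 34 .nil .nil) (.node 92 .nil .nil))) (.node 58 (.node 52 (.node 39 .nil .nil) (.node 95 .nil .nil)) (.node 50 (.node 76 .nil .nil) .nil))))))) (.node 0 (.node 2 (.node 0 (.node 9 (.node 18 (.node 5 (.node 9 (.node 51 .nil .nil) (.node 63 .nil .nil)) (.node 70 (.node 64 .nil .nil) (.node 71 .nil .nil))) (.node 49 (.node 32 (.node 57 .nil .nil) (.node 47 .nil .nil)) (.node 18 (.node 38 .nil .nil) (.node 91 .nil .nil)))) (.node 25 (.node 42 (.node 65 (.node 28 .nil .nil) (.node 84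 .nil .nil)) (.node 41 (.node 91 .nil .nil) (.node 94 .nil .nil))) (.node 22 (.node 71 (.node 74 .nil .nil) (.node 86 .nil .nil)) (.node 19 (.node 34 .nil .nil) (.node 99 .nil .nil))))) (.node 13 (.node 22 (.node 37 (.node 32 (.node 50 .nil .nil) (.node 58 .nil .nil)) (.node 40 (.node 81 .nil .nil) (.node 67 .nil .nil))) (.node 21 (.node 33 (.node 25 .nil .nil) (.node 48 .nil .nil)) (.node 19 (.node 92 .nil .nil) (.node 92 .nil .nil)))) (.node 30 (.node 44 (.node 30 (.node 51 .nil .nil) (.node 65 .nil .nil)) (.node 16 (.node 69 .nil .nil) (.node 75 .nil .nil))) (.node 57 (.node 59 (.node 90 .nil .nil) (.node 99 .nil .nil)) (.node 21 (.node 85 .nil .nil) .nil))))) (.node 7 (.node 12 (.node 21 (.node 13 (.node 29 (.node 21 .nil .nil) (.node 43 .nil .nil)) (.node 15 (.node 29 .nil .nil) (.node 62 .nil .nil))) (.node 7 (.node 22 (.node 78 .nil .nil) (.node 80 .nil .nil)) (.node 82 (.node 35 .nil .nil) (.node 86 .nil .nil)))) (.node 3 (.node 6 (.node 59 (.node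 86 .nil .nil) (.node 73 .nil .nil)) (.node 42 (.node 54 .nil .nil) (.node 72 .nil .nil))) (.node 8 (.node 14 (.node 26 .nil .nil) (.node 87 .nil .nil)) (.node 49 (.node 35 .nil .nil) .nil)))) (.node 16 (.node 25 (.node 39 (.node 28 (.node 87 .nil .nil) (.node 95 .nil .nil)) (.node 16 (.node 45 .nil .nil) (.node 72 .nil .nil))) (.node 49 (.node 72 (.node 63 .nil .nil) (.node 58 .nil .nil)) (.node 83 (.node 81 .nil .nil) (.node 98 .nil .nil)))) (.node 4 (.node 6 (.node 31 (.node 57 .nil .nil) (.node 91 .nil .nil)) (.node 74 (.node 69 .nil .nil) (.node 79 .nil .nil))) (.node 9 (.node 70 (.node 28 .nil .nil) (.node 58 .nil .nil)) (.node 50 (.node 38 .nil .nil) .nil)))))) (.node 4 (.node 5 (.node 10 (.node 7 (.node 34 (.node 9 (.node 20 .nil .nil) (.node 38 .nil .nil)) (.node 26 (.node 88 .nil .nil) (.node 90 .nil .nil))) (.node 6 (.node 12 (.node 25 .nil .nil) (.node 83 .nil .nil)) (.node 45 (.node 92 .nil .nil) (.node 85 .nil .nil)))) (.node 10 (.node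 40 (.node 10 (.node 55 .nil .nil) (.node 97 .nil .nil)) (.node 16 (.node 67 .nil .nil) (.node 93 .nil .nil))) (.node 54 (.node 75 (.node 61 .nil .nil) (.node 98 .nil .nil)) (.node 48 (.node 44 .nil .nil) (.node 99 .nil .nil))))) (.node 14 (.node 23 (.node 15 (.node 60 (.node 69 .nil .nil) (.node 72 .nil .nil)) (.node 16 (.node 29 .nil .nil) (.node 66 .nil .nil))) (.node 7 (.node 71 (.node 29 .nil .nil) (.node 75 .nil .nil)) (.node 19 (.node 34 .nil .nil) (.node 81 .nil .nil)))) (.node 31 (.node 35 (.node 67 (.node 56 .nil .nil) (.node 49 .nil .nil)) (.node 77 (.node 53 .nil .nil) (.node 78 .nil .nil))) (.node 55 (.node 54 (.node 77 .nil .nil) (.node 64 .nil .nil)) (.node 65 (.node 35 .nil .nil) .nil))))) (.node 8 (.node 4 (.node 2 (.node 36 (.node 62 (.node 79 .nil .nil) (.node 39 .nil .nil)) (.node 79 (.node 52 .nil .nil) (.node 84 .nil .nil))) (.node 11 (.node 18 (.node 37 .nil .nil) (.node 84 .nil .nil)) (.node 46 (.node 89 .nil .nil) (.node 88 .nil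 .nil)))) (.node 4 (.node 36 (.node 62 (.node 23 .nil .nil) (.node 64 .nil .nil)) (.node 75 (.node 68 .nil .nil) (.node 86 .nil .nil))) (.node 55 (.node 76 (.node 30 .nil .nil) (.node 53 .nil .nil)) (.node 19 (.node 43 .nil .nil) .nil)))) (.node 17 (.node 3 (.node 40 (.node 54 (.node 68 .nil .nil) (.node 39 .nil .nil)) (.node 56 (.node 31 .nil .nil) (.node 95 .nil .nil))) (.node 8 (.node 14 (.node 25 .nil .nil) (.node 94 .nil .nil)) (.node 84 (.node 73 .nil .nil) (.node 99 .nil .nil)))) (.node 32 (.node 47 (.node 11 (.node 82 .nil .nil) (.node 83 .nil .nil)) (.node 17 (.node 37 .nil .nil) (.node 80 .nil .nil))) (.node 59 (.node 76 (.node 52 .nil .nil) (.node 58 .nil .nil)) (.node 51 (.node 36 .nil .nil) .nil)))))))))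
set_option maxRecDepth 1000000 in
/-- The tree: parents. -/
def parL : List ℕ := [0,0,1,1,1,2,2,2,3,3,3,4,4,5,5,5,5,6,6,6,7,7,8,8,8,9,9,9,10,10,11,11,12,13,13,14,14,14,14,15,15,16,16,16,17,18,18,19,19,19,20,20,21,21,23,23,24,24,25,25,25,26,27,28,28,29,29,31,32,33,34,34,34,34,35,35,36,38,39,39,40,43,45,47,47,48,48,49,54,58,60,66,70,72,74,78,78,80,81,88]
set_option maxRecDepth 1000000 in
/-- The tree: letters. -/
def genL : List ℕ := [0,8,0,2,4,2,4,6,0,4,6,0,2,0,4,6,8,0,6,8,2,4,2,4,8,0,2,6,0,4,4,8,6,2,4,0,2,6,8,4,8,0,2,4,6,0,8,0,2,4,4,8,2,6,0,8,0,2,2,4,6,8,0,4,8,0,2,0,0,6,0,2,6,8,6,8,6,4,2,8,4,6,8,4,8,0,8,6,8,0,0,8,4,8,8,0,8,6,2,2]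

end Cfsg.Agent.Lib.KnownSimple.MultM.J2L
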