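import Cfsg.Agent.Lib.KnownSimple.MultC.Trie

/-!
# The table of the letters
-/

set_option autoImplicit false

namespace Cfsg.Agent.Lib.KnownSimple.MultM.J2L

open Cfsg.Agent.Lib.KnownSimple.MultC

set_option maxRecDepth 1000000 in
/-- The table of the letters. -/
def tn : ZN := (.node 80 (.node 80 (.node 87 (.node 3 (.node 147 (.node 91 (.node 167 (.node 122 (.node 33 (.node 81 (.node 189 (.node 249 .nil .nil) (.node 87 .nil .nil)) (.node 243 (.node 91 .nil .nil) .nil)) (.node 287 (.node 22 (.node 196 .nil .nil) .nil) (.node 181 (.node 226 .nil .nil) .nil))) (.node 210 (.node 181 (.node 186 (.node 217 .nil .nil) .nil) (.node 18 (.node 268 .nil .nil) .nil)) (.node 300 (.node 53 (.node 293 .nil .nil) .nil) (.node 199 (.node 309 .nil .nil) .nil)))) (.node 278 (.node 131 (.node 85 (.node 77 (.node 264 .nil .nil) (.node 266 .nil .nil)) (.node 108 (.node 237 .nil .nil) .nil)) (.node 13 (.node 75 (.node 236 .nil .nil) .nil) (.node 158 (.node 102 .nil .nil) .nil))) (.node 62 (.node 163 (.node 32 (.node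 107 .nil .nil) .nil) (.node 73 (.node 132 .nil .nil) .nil)) (.node 150 (.node 295 (.node 293 .nil .nil) .nil) (.node 192 (.node 104 .nil .nil) .nil))))) (.node 62 (.node 55 (.node 115 (.node 33 (.node 175 (.node 188 .nil .nil) (.node 133 .nil .nil)) (.node 58 (.node 285 .nil .nil) .nil)) (.node 292 (.node 292 (.node 110 .nil .nil) .nil) (.node 188 (.node 33 .nil .nil) .nil))) (.node 299 (.node 276 (.node 263 (.node 248 .nil .nil) .nil) (.node 234 (.node 228 .nil .nil) .nil)) (.node 65 (.node 32 (.node 278 .nil .nil) .nil) (.node 247 (.node 283 .nil .nil) .nil)))) (.node 242 (.node 135 (.node 132 (.node 238 (.node 254 .nil .nil) .nil) (.node 43 (.node 72 .nil .nil) .nil)) (.node 15 (.node 97 (.node 105 .nil .nil) .nil) (.node 207 (.node 161 .nil .nil) .nil))) (.node 13 (.node 63 (.node 88 (.node 235 .nil .nil) .nil) (.node 132 (.node 246 .nil .nil) .nil)) (.node 141 (.node 213 (.node 89 .nil .nil) .nil) (.node 16 (.node 119 .nil .nil) .nil)))))) (.node 111 (.node 110 (.node 29 (.node 88 (.node 167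 (.node 195 (.node 217 .nil .nil) (.node 290 .nil .nil)) (.node 155 (.node 222 .nil .nil) .nil)) (.node 160 (.node 146 (.node 269 .nil .nil) .nil) (.node 174 (.node 164 .nil .nil) .nil))) (.node 180 (.node 139 (.node 306 (.node 120 .nil .nil) .nil) (.node 11 (.node 117 .nil .nil) .nil)) (.node 3 (.node 157 (.node 19 .nil .nil) .nil) (.node 90 (.node 277 .nil .nil) .nil)))) (.node 301 (.node 25 (.node 28 (.node 135 (.node 17 .nil .nil) .nil) (.node 3 (.node 115 .nil .nil) .nil)) (.node 109 (.node 1 (.node 153 .nil .nil) .nil) (.node 262 (.node 100 .nil .nil) .nil))) (.node 236 (.node 80 (.node 256 (.node 102 .nil .nil) .nil) (.node 151 (.node 32 .nil .nil) .nil)) (.node 137 (.node 94 (.node 251 .nil .nil) .nil) (.node 191 (.node 216 .nil .nil) .nil))))) (.node 136 (.node 10 (.node 72 (.node 15 (.node 16 (.node 176 .nil .nil) (.node 171 .nil .nil)) (.node 178 (.node 10 .nil .nil) .nil)) (.node 160 (.node 60 (.node 227 .nil .nil) .nil) (.node 305 (.node 197 .nil .nil) .nil))) (.node 163 (.node 102 (.node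 303 (.node 181 .nil .nil) .nil) (.node 26 (.node 13 .nil .nil) .nil)) (.node 16 (.node 244 (.node 153 .nil .nil) .nil) (.node 83 (.node 273 .nil .nil) .nil)))) (.node 259 (.node 298 (.node 50 (.node 302 (.node 42 .nil .nil) .nil) (.node 176 (.node 248 .nil .nil) .nil)) (.node 185 (.node 196 (.node 200 .nil .nil) .nil) (.node 172 (.node 221 .nil .nil) .nil))) (.node 143 (.node 36 (.node 199 (.node 35 .nil .nil) .nil) (.node 60 (.node 5 .nil .nil) .nil)) (.node 269 (.node 36 (.node 214 .nil .nil) .nil) (.node 183 (.node 103 .nil .nil) .nil))))))) (.node 112 (.node 293 (.node 149 (.node 273 (.node 27 (.node 304 (.node 32 (.node 205 .nil .nil) (.node 307 .nil .nil)) (.node 25 (.node 99 .nil .nil) .nil)) (.node 298 (.node 119 (.node 192 .nil .nil) .nil) (.node 44 (.node 282 .nil .nil) .nil))) (.node 182 (.node 37 (.node 263 (.node 185 .nil .nil) .nil) (.node 66 (.node 284 .nil .nil) .nil)) (.node 211 (.node 212 (.node 83 .nil .nil) .nil) (.node 29 (.node 147 .nil .nil) .nil)))) (.node 254 (.node 276 (.node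 9 (.node 238 (.node 90 .nil .nil) (.node 249 .nil .nil)) (.node 81 (.node 263 .nil .nil) .nil)) (.node 243 (.node 35 (.node 104 .nil .nil) .nil) (.node 232 (.node 309 .nil .nil) .nil))) (.node 136 (.node 282 (.node 273 (.node 25 .nil .nil) .nil) (.node 252 (.node 272 .nil .nil) .nil)) (.node 41 (.node 310 (.node 44 .nil .nil) .nil) (.node 53 (.node 22 .nil .nil) .nil))))) (.node 39 (.node 38 (.node 179 (.node 254 (.node 104 (.node 163 .nil .nil) (.node 225 .nil .nil)) (.node 246 (.node 23 .nil .nil) .nil)) (.node 237 (.node 31 (.node 48 .nil .nil) .nil) (.node 203 (.node 124 .nil .nil) .nil))) (.node 42 (.node 137 (.node 140 (.node 82 .nil .nil) .nil) (.node 69 (.node 233 .nil .nil) .nil)) (.node 213 (.node 105 (.node 195 .nil .nil) .nil) (.node 103 (.node 93 .nil .nil) .nil)))) (.node 77 (.node 130 (.node 30 (.node 145 (.node 300 .nil .nil) .nil) (.node 226 (.node 253 .nil .nil) .nil)) (.node 307 (.node 207 (.node 254 .nil .nil) .nil) (.node 118 (.node 297 .nil .nil) .nil))) (.node 166 (.node 114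 (.node 162 (.node 289 .nil .nil) .nil) (.node 164 (.node 304 .nil .nil) .nil)) (.node 9 (.node 97 (.node 310 .nil .nil) .nil) (.node 231 (.node 110 .nil .nil) .nil)))))) (.node 164 (.node 95 (.node 154 (.node 174 (.node 28 (.node 300 (.node 310 .nil .nil) (.node 39 .nil .nil)) (.node 48 (.node 80 .nil .nil) .nil)) (.node 84 (.node 73 (.node 265 .nil .nil) .nil) (.node 2 (.node 182 .nil .nil) .nil))) (.node 274 (.node 219 (.node 165 (.node 66 .nil .nil) .nil) (.node 293 (.node 113 .nil .nil) .nil)) (.node 255 (.node 146 (.node 202 .nil .nil) .nil) (.node 68 (.node 103 .nil .nil) .nil)))) (.node 70 (.node 43 (.node 97 (.node 14 (.node 93 .nil .nil) .nil) (.node 284 (.node 279 .nil .nil) .nil)) (.node 57 (.node 275 (.node 208 .nil .nil) .nil) (.node 253 (.node 290 .nil .nil) .nil))) (.node 255 (.node 47 (.node 25 (.node 292 .nil .nil) .nil) (.node 198 (.node 271 .nil .nil) .nil)) (.node 187 (.node 69 (.node 106 .nil .nil) .nil) (.node 70 (.node 214 .nil .nil) .nil))))) (.node 167 (.node 166 (.node 165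 (.node 195 (.node 223 (.node 38 .nil .nil) (.node 1 .nil .nil)) (.node 109 (.node 98 .nil .nil) .nil)) (.node 139 (.node 159 (.node 312 .nil .nil) .nil) (.node 153 (.node 245 .nil .nil) .nil))) (.node 129 (.node 149 (.node 171 (.node 180 .nil .nil) .nil) (.node 311 (.node 140 .nil .nil) .nil)) (.node 125 (.node 146 (.node 220 .nil .nil) .nil) (.node 307 (.node 294 .nil .nil) .nil)))) (.node 170 (.node 214 (.node 63 (.node 74 (.node 149 .nil .nil) .nil) (.node 117 (.node 69 .nil .nil) .nil)) (.node 124 (.node 237 (.node 22 .nil .nil) .nil) (.node 50 (.node 249 .nil .nil) .nil))) (.node 62 (.node 268 (.node 54 (.node 204 .nil .nil) .nil) (.node 158 (.node 214 .nil .nil) .nil)) (.node 262 (.node 199 (.node 47 .nil .nil) .nil) (.node 248 (.node 300 .nil .nil) .nil)))))))) (.node 1 (.node 135 (.node 161 (.node 297 (.node 83 (.node 123 (.node 74 (.node 68 (.node 296 .nil .nil) (.node 197 .nil .nil)) (.node 247 (.node 8 .nil .nil) .nil)) (.node 23 (.node 53 (.node 69 .nil .nil) .nil) (.node 29 (.node 85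 .nil .nil) .nil))) (.node 16 (.node 31 (.node 134 (.node 256 .nil .nil) .nil) (.node 48 (.node 29 .nil .nil) .nil)) (.node 65 (.node 99 (.node 153 .nil .nil) .nil) (.node 198 (.node 31 .nil .nil) .nil)))) (.node 76 (.node 99 (.node 208 (.node 159 (.node 20 .nil .nil) (.node 140 .nil .nil)) (.node 78 (.node 123 .nil .nil) .nil)) (.node 42 (.node 146 (.node 133 .nil .nil) .nil) (.node 87 (.node 37 .nil .nil) .nil))) (.node 218 (.node 200 (.node 28 (.node 105 .nil .nil) .nil) (.node 242 (.node 280 .nil .nil) .nil)) (.node 63 (.node 1 (.node 216 .nil .nil) .nil) (.node 219 (.node 194 .nil .nil) .nil))))) (.node 99 (.node 94 (.node 269 (.node 90 (.node 239 (.node 164 .nil .nil) (.node 181 .nil .nil)) (.node 257 (.node 138 .nil .nil) .nil)) (.node 258 (.node 114 (.node 136 .nil .nil) .nil) (.node 158 (.node 259 .nil .nil) .nil))) (.node 301 (.node 167 (.node 253 (.node 82 .nil .nil) .nil) (.node 250 (.node 275 .nil .nil) .nil)) (.node 118 (.node 45 (.node 303 .nil .nil) .nil) (.node 112 (.node 291 .nil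 .nil) .nil)))) (.node 234 (.node 228 (.node 116 (.node 2 (.node 280 .nil .nil) .nil) (.node 208 (.node 88 .nil .nil) .nil)) (.node 179 (.node 67 (.node 120 .nil .nil) .nil) (.node 260 (.node 8 .nil .nil) .nil))) (.node 234 (.node 17 (.node 95 (.node 224 .nil .nil) .nil) (.node 200 (.node 267 .nil .nil) .nil)) (.node 207 (.node 194 (.node 40 .nil .nil) .nil) (.node 120 (.node 289 .nil .nil) .nil)))))) (.node 234 (.node 256 (.node 66 (.node 38 (.node 199 (.node 106 (.node 191 .nil .nil) (.node 229 .nil .nil)) (.node 122 (.node 157 .nil .nil) .nil)) (.node 78 (.node 43 (.node 186 .nil .nil) .nil) (.node 179 (.node 297 .nil .nil) .nil))) (.node 119 (.node 89 (.node 270 (.node 132 .nil .nil) .nil) (.node 101 (.node 239 .nil .nil) .nil)) (.node 198 (.node 107 (.node 287 .nil .nil) .nil) (.node 308 (.node 248 .nil .nil) .nil)))) (.node 18 (.node 33 (.node 11 (.node 304 (.node 224 .nil .nil) .nil) (.node 196 (.node 61 .nil .nil) .nil)) (.node 42 (.node 307 (.node 225 .nil .nil) .nil) (.node 135 (.node 227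 .nil .nil) .nil))) (.node 173 (.node 30 (.node 123 (.node 4 .nil .nil) .nil) (.node 180 (.node 62 .nil .nil) .nil)) (.node 59 (.node 7 (.node 230 .nil .nil) .nil) (.node 176 (.node 302 .nil .nil) .nil))))) (.node 59 (.node 73 (.node 193 (.node 3 (.node 95 (.node 242 .nil .nil) (.node 281 .nil .nil)) (.node 182 (.node 185 .nil .nil) .nil)) (.node 116 (.node 237 (.node 260 .nil .nil) .nil) (.node 165 (.node 255 .nil .nil) .nil))) (.node 276 (.node 308 (.node 240 (.node 291 .nil .nil) .nil) (.node 18 (.node 34 .nil .nil) .nil)) (.node 148 (.node 109 (.node 296 .nil .nil) .nil) (.node 60 (.node 41 .nil .nil) .nil)))) (.node 83 (.node 49 (.node 44 (.node 78 (.node 302 .nil .nil) .nil) (.node 31 (.node 184 .nil .nil) .nil)) (.node 84 (.node 65 (.node 264 .nil .nil) .nil) (.node 155 (.node 243 .nil .nil) .nil))) (.node 53 (.node 116 (.node 143 (.node 309 .nil .nil) .nil) (.node 77 (.node 171 .nil .nil) .nil)) (.node 100 (.node 76 (.node 240 .nil .nil) .nil) (.node 34 (.node 183 .nil .nil) .nil))))))) (.node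 93 (.node 137 (.node 12 (.node 47 (.node 175 (.node 252 (.node 305 (.node 98 .nil .nil) (.node 295 .nil .nil)) (.node 45 (.node 157 .nil .nil) .nil)) (.node 177 (.node 150 (.node 231 .nil .nil) .nil) (.node 265 (.node 13 .nil .nil) .nil))) (.node 309 (.node 74 (.node 215 (.node 203 .nil .nil) .nil) (.node 67 (.node 231 .nil .nil) .nil)) (.node 54 (.node 118 (.node 179 .nil .nil) .nil) (.node 305 (.node 130 .nil .nil) .nil)))) (.node 11 (.node 33 (.node 156 (.node 145 (.node 279 .nil .nil) (.node 314 .nil .nil)) (.node 291 (.node 23 .nil .nil) .nil)) (.node 88 (.node 187 (.node 139 .nil .nil) .nil) (.node 151 (.node 228 .nil .nil) .nil))) (.node 12 (.node 71 (.node 12 (.node 311 .nil .nil) .nil) (.node 173 (.node 95 .nil .nil) .nil)) (.node 151 (.node 79 (.node 114 .nil .nil) .nil) (.node 218 (.node 41 .nil .nil) .nil))))) (.node 260 (.node 17 (.node 29 (.node 254 (.node 215 (.node 46 .nil .nil) (.node 288 .nil .nil)) (.node 257 (.node 175 .nil .nil) .nil)) (.node 51 (.node 124 (.node 22 .nil .nil)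 .nil) (.node 84 (.node 82 .nil .nil) .nil))) (.node 251 (.node 194 (.node 223 (.node 210 .nil .nil) .nil) (.node 24 (.node 299 .nil .nil) .nil)) (.node 260 (.node 34 (.node 215 .nil .nil) .nil) (.node 230 (.node 36 .nil .nil) .nil)))) (.node 263 (.node 145 (.node 234 (.node 271 (.node 247 .nil .nil) .nil) (.node 208 (.node 259 .nil .nil) .nil)) (.node 142 (.node 178 (.node 249 .nil .nil) .nil) (.node 58 (.node 226 .nil .nil) .nil))) (.node 37 (.node 50 (.node 114 (.node 241 .nil .nil) .nil) (.node 210 (.node 120 .nil .nil) .nil)) (.node 220 (.node 255 (.node 187 .nil .nil) .nil) (.node 223 (.node 193 .nil .nil) .nil)))))) (.node 279 (.node 58 (.node 68 (.node 67 (.node 49 (.node 8 (.node 99 .nil .nil) (.node 200 .nil .nil)) (.node 191 (.node 129 .nil .nil) .nil)) (.node 220 (.node 271 (.node 201 .nil .nil) .nil) (.node 63 (.node 162 .nil .nil) .nil))) (.node 57 (.node 14 (.node 258 (.node 100 .nil .nil) .nil) (.node 144 (.node 277 .nil .nil) .nil)) (.node 147 (.node 49 (.node 158 .nil .nil) .nil)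 (.node 150 (.node 286 .nil .nil) .nil)))) (.node 18 (.node 285 (.node 109 (.node 240 (.node 156 .nil .nil) .nil) (.node 211 (.node 38 .nil .nil) .nil)) (.node 281 (.node 184 (.node 66 .nil .nil) .nil) (.node 182 (.node 308 .nil .nil) .nil))) (.node 248 (.node 73 (.node 132 (.node 57 .nil .nil) .nil) (.node 105 (.node 295 .nil .nil) .nil)) (.node 137 (.node 204 (.node 52 .nil .nil) .nil) (.node 233 (.node 150 .nil .nil) .nil))))) (.node 71 (.node 242 (.node 54 (.node 41 (.node 267 (.node 79 .nil .nil) (.node 89 .nil .nil)) (.node 133 (.node 261 .nil .nil) .nil)) (.node 273 (.node 286 (.node 46 .nil .nil) .nil) (.node 261 (.node 56 .nil .nil) .nil))) (.node 250 (.node 267 (.node 268 (.node 119 .nil .nil) .nil) (.node 190 (.node 40 .nil .nil) .nil)) (.node 107 (.node 134 (.node 241 .nil .nil) .nil) (.node 52 (.node 306 .nil .nil) .nil)))) (.node 10 (.node 148 (.node 73 (.node 250 (.node 170 .nil .nil) .nil) (.node 266 (.node 283 .nil .nil) .nil)) (.node 313 (.node 274 (.node 18 .nil .nil) .nil) (.node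 292 (.node 3 .nil .nil) .nil))) (.node 74 (.node 152 (.node 294 (.node 184 .nil .nil) .nil) (.node 138 (.node 190 .nil .nil) .nil)) (.node 100 (.node 178 (.node 151 .nil .nil) .nil) (.node 204 (.node 116 .nil .nil) .nil))))))))) (.node 278 (.node 168 (.node 312 (.node 56 (.node 128 (.node 45 (.node 224 (.node 85 (.node 225 (.node 149 .nil .nil) (.node 136 .nil .nil)) (.node 184 (.node 123 .nil .nil) .nil)) (.node 68 (.node 152 (.node 251 .nil .nil) .nil) (.node 244 (.node 281 .nil .nil) .nil))) (.node 27 (.node 252 (.node 247 (.node 9 .nil .nil) .nil) (.node 272 (.node 75 .nil .nil) .nil)) (.node 252 (.node 313 (.node 177 .nil .nil) .nil) (.node 231 (.node 127 .nil .nil) .nil)))) (.node 183 (.node 103 (.node 226 (.node 159 (.node 90 .nil .nil) (.node 49 .nil .nil)) (.node 216 (.node 101 .nil .nil) .nil)) (.node 24 (.node 115 (.node 236 .nil .nil) .nil) (.node 157 (.node 56 .nil .nil) .nil))) (.node 179 (.node 21 (.node 263 (.node 213 .nil .nil) .nil) (.node 212 (.node 272 .nil .nil) .nil)) (.node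 250 (.node 92 (.node 204 .nil .nil) .nil) (.node 91 (.node 104 .nil .nil) .nil))))) (.node 217 (.node 107 (.node 121 (.node 31 (.node 144 (.node 239 .nil .nil) (.node 253 .nil .nil)) (.node 213 (.node 121 .nil .nil) .nil)) (.node 0 (.node 57 (.node 272 .nil .nil) .nil) (.node 194 (.node 284 .nil .nil) .nil))) (.node 96 (.node 28 (.node 189 (.node 218 .nil .nil) .nil) (.node 125 (.node 238 .nil .nil) .nil)) (.node 252 (.node 169 (.node 157 .nil .nil) .nil) (.node 257 (.node 6 .nil .nil) .nil)))) (.node 301 (.node 209 (.node 26 (.node 266 (.node 37 .nil .nil) .nil) (.node 70 (.node 232 .nil .nil) .nil)) (.node 188 (.node 98 (.node 30 .nil .nil) .nil) (.node 207 (.node 91 .nil .nil) .nil))) (.node 106 (.node 172 (.node 232 (.node 235 .nil .nil) .nil) (.node 76 (.node 0 .nil .nil) .nil)) (.node 32 (.node 303 (.node 92 .nil .nil) .nil) (.node 311 (.node 279 .nil .nil) .nil)))))) (.node 225 (.node 105 (.node 36 (.node 26 (.node 197 (.node 166 (.node 282 .nil .nil) (.node 193 .nil .nil)) (.node 271 (.node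 87 .nil .nil) .nil)) (.node 78 (.node 258 (.node 142 .nil .nil) .nil) (.node 39 (.node 268 .nil .nil) .nil))) (.node 253 (.node 92 (.node 81 (.node 66 .nil .nil) .nil) (.node 222 (.node 108 .nil .nil) .nil)) (.node 291 (.node 87 (.node 240 .nil .nil) .nil) (.node 30 (.node 205 .nil .nil) .nil)))) (.node 96 (.node 284 (.node 193 (.node 233 (.node 172 .nil .nil) .nil) (.node 243 (.node 211 .nil .nil) .nil)) (.node 112 (.node 11 (.node 109 .nil .nil) .nil) (.node 98 (.node 227 .nil .nil) .nil))) (.node 80 (.node 6 (.node 129 (.node 238 .nil .nil) .nil) (.node 242 (.node 126 .nil .nil) .nil)) (.node 59 (.node 37 (.node 113 .nil .nil) .nil) (.node 126 (.node 113 .nil .nil) .nil))))) (.node 20 (.node 212 (.node 61 (.node 288 (.node 203 (.node 21 .nil .nil) (.node 78 .nil .nil)) (.node 185 (.node 93 .nil .nil) .nil)) (.node 160 (.node 175 (.node 227 .nil .nil) .nil) (.node 137 (.node 144 .nil .nil) .nil))) (.node 34 (.node 76 (.node 219 (.node 257 .nil .nil) .nil) (.node 280 (.node 82 .nil .nil) .nil))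 (.node 48 (.node 112 (.node 267 .nil .nil) .nil) (.node 161 (.node 221 .nil .nil) .nil)))) (.node 156 (.node 151 (.node 9 (.node 113 (.node 160 .nil .nil) .nil) (.node 16 (.node 108 .nil .nil) .nil)) (.node 27 (.node 82 (.node 5 .nil .nil) .nil) (.node 50 (.node 79 .nil .nil) .nil))) (.node 313 (.node 134 (.node 178 (.node 271 .nil .nil) .nil) (.node 159 (.node 148 .nil .nil) .nil)) (.node 101 (.node 128 (.node 55 .nil .nil) .nil) (.node 107 (.node 55 .nil .nil) .nil))))))) (.node 181 (.node 52 (.node 7 (.node 282 (.node 186 (.node 4 (.node 269 (.node 67 .nil .nil) (.node 69 .nil .nil)) (.node 64 (.node 217 .nil .nil) .nil)) (.node 108 (.node 246 (.node 202 .nil .nil) .nil) (.node 223 (.node 206 .nil .nil) .nil))) (.node 10 (.node 94 (.node 61 (.node 199 .nil .nil) .nil) (.node 6 (.node 100 .nil .nil) .nil)) (.node 193 (.node 187 (.node 220 .nil .nil) .nil) (.node 192 (.node 308 .nil .nil) .nil)))) (.node 258 (.node 143 (.node 172 (.node 84 (.node 314 .nil .nil) (.node 40 .nil .nil)) (.node 306 (.node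 118 .nil .nil) .nil)) (.node 79 (.node 110 (.node 80 .nil .nil) .nil) (.node 26 (.node 70 .nil .nil) .nil))) (.node 154 (.node 12 (.node 155 (.node 262 .nil .nil) .nil) (.node 46 (.node 67 .nil .nil) .nil)) (.node 20 (.node 280 (.node 290 .nil .nil) .nil) (.node 126 (.node 20 .nil .nil) .nil))))) (.node 17 (.node 164 (.node 192 (.node 311 (.node 168 (.node 57 .nil .nil) (.node 55 .nil .nil)) (.node 185 (.node 189 .nil .nil) .nil)) (.node 71 (.node 275 (.node 169 .nil .nil) .nil) (.node 19 (.node 34 .nil .nil) .nil))) (.node 83 (.node 174 (.node 40 (.node 292 .nil .nil) .nil) (.node 170 (.node 275 .nil .nil) .nil)) (.node 2 (.node 270 (.node 115 .nil .nil) .nil) (.node 139 (.node 77 .nil .nil) .nil)))) (.node 225 (.node 75 (.node 127 (.node 84 (.node 116 .nil .nil) .nil) (.node 283 (.node 313 .nil .nil) .nil)) (.node 0 (.node 259 (.node 244 .nil .nil) .nil) (.node 213 (.node 131 .nil .nil) .nil))) (.node 155 (.node 51 (.node 169 (.node 289 .nil .nil) .nil) (.node 38 (.node 212 .nil .nil) .nil)) (.node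 101 (.node 174 (.node 118 .nil .nil) .nil) (.node 245 (.node 51 .nil .nil) .nil)))))) (.node 241 (.node 194 (.node 86 (.node 59 (.node 140 (.node 300 (.node 138 .nil .nil) (.node 288 .nil .nil)) (.node 24 (.node 140 .nil .nil) .nil)) (.node 148 (.node 295 (.node 124 .nil .nil) .nil) (.node 310 (.node 236 .nil .nil) .nil))) (.node 24 (.node 239 (.node 43 (.node 244 .nil .nil) .nil) (.node 0 (.node 155 .nil .nil) .nil)) (.node 206 (.node 287 (.node 283 .nil .nil) .nil) (.node 182 (.node 56 .nil .nil) .nil)))) (.node 209 (.node 203 (.node 197 (.node 141 (.node 189 .nil .nil) .nil) (.node 125 (.node 241 .nil .nil) .nil)) (.node 85 (.node 233 (.node 285 .nil .nil) .nil) (.node 86 (.node 250 .nil .nil) .nil))) (.node 97 (.node 282 (.node 158 (.node 281 .nil .nil) .nil) (.node 260 (.node 277 .nil .nil) .nil)) (.node 261 (.node 216 (.node 64 .nil .nil) .nil) (.node 309 (.node 77 .nil .nil) .nil))))) (.node 290 (.node 171 (.node 64 (.node 296 (.node 294 (.node 232 .nil .nil) (.node 235 .nil .nil)) (.node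 313 (.node 307 .nil .nil) .nil)) (.node 221 (.node 91 (.node 284 .nil .nil) .nil) (.node 229 (.node 143 .nil .nil) .nil))) (.node 44 (.node 230 (.node 201 (.node 293 .nil .nil) .nil) (.node 302 (.node 236 .nil .nil) .nil)) (.node 276 (.node 129 (.node 203 .nil .nil) .nil) (.node 11 (.node 215 .nil .nil) .nil)))) (.node 40 (.node 64 (.node 96 (.node 131 (.node 249 .nil .nil) .nil) (.node 23 (.node 121 .nil .nil) .nil)) (.node 265 (.node 119 (.node 174 .nil .nil) .nil) (.node 156 (.node 168 .nil .nil) .nil))) (.node 190 (.node 176 (.node 17 (.node 247 .nil .nil) .nil) (.node 126 (.node 50 .nil .nil) .nil)) (.node 231 (.node 206 (.node 301 .nil .nil) .nil) (.node 22 (.node 268 .nil .nil) .nil)))))))) (.node 1 (.node 274 (.node 0 (.node 222 (.node 277 (.node 171 (.node 7 (.node 287 (.node 229 .nil .nil) (.node 261 .nil .nil)) (.node 15 (.node 192 .nil .nil) .nil)) (.node 303 (.node 6 (.node 278 .nil .nil) .nil) (.node 86 (.node 71 .nil .nil) .nil))) (.node 176 (.node 154 (.node 28 (.node 45 .nil .nil)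 .nil) (.node 190 (.node 103 .nil .nil) .nil)) (.node 306 (.node 111 (.node 161 .nil .nil) .nil) (.node 256 (.node 299 .nil .nil) .nil)))) (.node 244 (.node 121 (.node 9 (.node 60 (.node 162 .nil .nil) (.node 212 .nil .nil)) (.node 81 (.node 224 .nil .nil) .nil)) (.node 196 (.node 138 (.node 262 .nil .nil) .nil) (.node 115 (.node 311 .nil .nil) .nil))) (.node 144 (.node 288 (.node 230 (.node 227 .nil .nil) .nil) (.node 173 (.node 136 .nil .nil) .nil)) (.node 308 (.node 63 (.node 96 .nil .nil) .nil) (.node 14 (.node 255 .nil .nil) .nil))))) (.node 25 (.node 201 (.node 14 (.node 162 (.node 48 (.node 163 .nil .nil) (.node 147 .nil .nil)) (.node 142 (.node 266 .nil .nil) .nil)) (.node 46 (.node 299 (.node 5 .nil .nil) .nil) (.node 283 (.node 239 .nil .nil) .nil))) (.node 85 (.node 205 (.node 141 (.node 299 .nil .nil) .nil) (.node 217 (.node 166 .nil .nil) .nil)) (.node 298 (.node 286 (.node 128 .nil .nil) .nil) (.node 56 (.node 298 .nil .nil) .nil)))) (.node 127 (.node 228 (.node 264 (.node 195 (.node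 74 .nil .nil) .nil) (.node 208 (.node 112 .nil .nil) .nil)) (.node 62 (.node 98 (.node 111 .nil .nil) .nil) (.node 102 (.node 222 .nil .nil) .nil))) (.node 94 (.node 65 (.node 305 (.node 289 .nil .nil) .nil) (.node 209 (.node 230 .nil .nil) .nil)) (.node 256 (.node 95 (.node 266 .nil .nil) .nil) (.node 102 (.node 148 .nil .nil) .nil)))))) (.node 21 (.node 291 (.node 198 (.node 39 (.node 128 (.node 237 (.node 152 .nil .nil) (.node 294 .nil .nil)) (.node 190 (.node 20 .nil .nil) .nil)) (.node 113 (.node 130 (.node 210 .nil .nil) .nil) (.node 222 (.node 245 .nil .nil) .nil))) (.node 314 (.node 167 (.node 270 (.node 198 .nil .nil) .nil) (.node 106 (.node 144 .nil .nil) .nil)) (.node 133 (.node 202 (.node 245 .nil .nil) .nil) (.node 301 (.node 4 .nil .nil) .nil)))) (.node 5 (.node 145 (.node 97 (.node 7 (.node 150 .nil .nil) .nil) (.node 110 (.node 180 .nil .nil) .nil)) (.node 51 (.node 45 (.node 111 .nil .nil) .nil) (.node 141 (.node 12 .nil .nil) .nil))) (.node 46 (.node 265 (.node 262 (.node 114 .nil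 .nil) .nil) (.node 27 (.node 13 .nil .nil) .nil)) (.node 138 (.node 149 (.node 42 .nil .nil) .nil) (.node 241 (.node 302 .nil .nil) .nil))))) (.node 197 (.node 21 (.node 290 (.node 287 (.node 142 (.node 177 .nil .nil) (.node 156 .nil .nil)) (.node 245 (.node 233 .nil .nil) .nil)) (.node 221 (.node 310 (.node 135 .nil .nil) .nil) (.node 267 (.node 133 .nil .nil) .nil))) (.node 117 (.node 170 (.node 279 (.node 6 .nil .nil) .nil) (.node 120 (.node 2 .nil .nil) .nil)) (.node 64 (.node 143 (.node 47 .nil .nil) .nil) (.node 286 (.node 131 .nil .nil) .nil)))) (.node 24 (.node 288 (.node 86 (.node 226 (.node 196 .nil .nil) .nil) (.node 184 (.node 278 .nil .nil) .nil)) (.node 152 (.node 71 (.node 173 .nil .nil) .nil) (.node 166 (.node 223 .nil .nil) .nil))) (.node 191 (.node 75 (.node 276 (.node 205 .nil .nil) .nil) (.node 153 (.node 275 .nil .nil) .nil)) (.node 168 (.node 88 (.node 19 .nil .nil) .nil) (.node 218 (.node 90 .nil .nil) .nil))))))) (.node 10 (.node 296 (.node 51 (.node 111 (.node 60 (.node 52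 (.node 296 (.node 92 .nil .nil) (.node 96 .nil .nil)) (.node 122 (.node 195 .nil .nil) .nil)) (.node 312 (.node 123 (.node 101 .nil .nil) .nil) (.node 264 (.node 72 .nil .nil) .nil))) (.node 27 (.node 41 (.node 75 (.node 220 .nil .nil) .nil) (.node 52 (.node 117 .nil .nil) .nil)) (.node 211 (.node 232 (.node 145 .nil .nil) .nil) (.node 59 (.node 295 .nil .nil) .nil)))) (.node 211 (.node 54 (.node 189 (.node 162 (.node 141 .nil .nil) (.node 314 .nil .nil)) (.node 49 (.node 121 .nil .nil) .nil)) (.node 183 (.node 235 (.node 272 .nil .nil) .nil) (.node 298 (.node 304 .nil .nil) .nil))) (.node 209 (.node 139 (.node 154 (.node 23 .nil .nil) .nil) (.node 68 (.node 43 .nil .nil) .nil)) (.node 47 (.node 304 (.node 169 .nil .nil) .nil) (.node 152 (.node 172 .nil .nil) .nil))))) (.node 2 (.node 127 (.node 240 (.node 305 (.node 251 (.node 35 .nil .nil) (.node 201 .nil .nil)) (.node 124 (.node 235 .nil .nil) .nil)) (.node 81 (.node 219 (.node 61 .nil .nil) .nil) (.node 15 (.node 297 .nil .nil) .nil))) (.node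 215 (.node 15 (.node 128 (.node 168 .nil .nil) .nil) (.node 274 (.node 122 .nil .nil) .nil)) (.node 246 (.node 36 (.node 229 .nil .nil) .nil) (.node 216 (.node 186 .nil .nil) .nil)))) (.node 165 (.node 14 (.node 277 (.node 251 (.node 106 .nil .nil) .nil) (.node 5 (.node 165 .nil .nil) .nil)) (.node 257 (.node 134 (.node 228 .nil .nil) .nil) (.node 281 (.node 191 .nil .nil) .nil))) (.node 161 (.node 214 (.node 200 (.node 35 .nil .nil) .nil) (.node 243 (.node 264 .nil .nil) .nil)) (.node 289 (.node 186 (.node 55 .nil .nil) .nil) (.node 142 (.node 125 .nil .nil) .nil)))))) (.node 72 (.node 58 (.node 183 (.node 53 (.node 127 (.node 224 (.node 188 .nil .nil) (.node 207 .nil .nil)) (.node 312 (.node 117 .nil .nil) .nil)) (.node 210 (.node 35 (.node 261 .nil .nil) .nil) (.node 39 (.node 269 .nil .nil) .nil))) (.node 65 (.node 219 (.node 93 (.node 79 .nil .nil) .nil) (.node 201 (.node 130 .nil .nil) .nil)) (.node 92 (.node 126 (.node 94 .nil .nil) .nil) (.node 8 (.node 89 .nil .nil) .nil)))) (.node 204 (.node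 273 (.node 177 (.node 4 (.node 303 .nil .nil) .nil) (.node 54 (.node 180 .nil .nil) .nil)) (.node 188 (.node 4 (.node 270 .nil .nil) .nil) (.node 86 (.node 30 .nil .nil) .nil))) (.node 72 (.node 130 (.node 285 (.node 163 .nil .nil) .nil) (.node 26 (.node 19 .nil .nil) .nil)) (.node 205 (.node 129 (.node 173 .nil .nil) .nil) (.node 169 (.node 246 .nil .nil) .nil))))) (.node 7 (.node 21 (.node 294 (.node 131 (.node 270 (.node 221 .nil .nil) (.node 159 .nil .nil)) (.node 177 (.node 187 .nil .nil) .nil)) (.node 285 (.node 70 (.node 274 .nil .nil) .nil) (.node 218 (.node 76 .nil .nil) .nil))) (.node 44 (.node 134 (.node 259 (.node 202 .nil .nil) .nil) (.node 58 (.node 170 .nil .nil) .nil)) (.node 8 (.node 178 (.node 314 .nil .nil) .nil) (.node 175 (.node 89 .nil .nil) .nil)))) (.node 154 (.node 265 (.node 147 (.node 125 (.node 206 .nil .nil) .nil) (.node 104 (.node 306 .nil .nil) .nil)) (.node 297 (.node 258 (.node 209 .nil .nil) .nil) (.node 206 (.node 108 .nil .nil) .nil))) (.node 280 (.node 19 (.node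 61 (.node 122 .nil .nil) .nil) (.node 146 (.node 312 .nil .nil) .nil)) (.node 202 (.node 238 (.node 286 .nil .nil) .nil) (.node 229 (.node 160 .nil .nil) .nil)))))))))) (.node 87 (.node 278 (.node 168 (.node 312 (.node 56 (.node 128 (.node 45 (.node 224 (.node 85 (.node 225 (.node 149 .nil .nil) (.node 136 .nil .nil)) (.node 184 (.node 123 .nil .nil) .nil)) (.node 68 (.node 152 (.node 251 .nil .nil) .nil) (.node 244 (.node 281 .nil .nil) .nil))) (.node 27 (.node 252 (.node 247 (.node 9 .nil .nil) .nil) (.node 272 (.node 75 .nil .nil) .nil)) (.node 252 (.node 313 (.node 177 .nil .nil) .nil) (.node 231 (.node 127 .nil .nil) .nil)))) (.node 183 (.node 103 (.node 226 (.node 159 (.node 90 .nil .nil) (.node 49 .nil .nil)) (.node 216 (.node 101 .nil .nil) .nil)) (.node 24 (.node 115 (.node 236 .nil .nil) .nil) (.node 157 (.node 56 .nil .nil) .nil))) (.node 179 (.node 21 (.node 263 (.node 213 .nil .nil) .nil) (.node 212 (.node 272 .nil .nil) .nil)) (.node 250 (.node 92 (.node 204 .nil .nil) .nil) (.node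 91 (.node 104 .nil .nil) .nil))))) (.node 217 (.node 107 (.node 121 (.node 31 (.node 144 (.node 239 .nil .nil) (.node 253 .nil .nil)) (.node 213 (.node 121 .nil .nil) .nil)) (.node 0 (.node 57 (.node 272 .nil .nil) .nil) (.node 194 (.node 284 .nil .nil) .nil))) (.node 96 (.node 28 (.node 189 (.node 218 .nil .nil) .nil) (.node 125 (.node 238 .nil .nil) .nil)) (.node 252 (.node 169 (.node 157 .nil .nil) .nil) (.node 257 (.node 6 .nil .nil) .nil)))) (.node 301 (.node 209 (.node 26 (.node 266 (.node 37 .nil .nil) .nil) (.node 70 (.node 232 .nil .nil) .nil)) (.node 188 (.node 98 (.node 30 .nil .nil) .nil) (.node 207 (.node 91 .nil .nil) .nil))) (.node 106 (.node 172 (.node 232 (.node 235 .nil .nil) .nil) (.node 76 (.node 0 .nil .nil) .nil)) (.node 32 (.node 303 (.node 92 .nil .nil) .nil) (.node 311 (.node 279 .nil .nil) .nil)))))) (.node 225 (.node 105 (.node 36 (.node 26 (.node 197 (.node 166 (.node 282 .nil .nil) (.node 193 .nil .nil)) (.node 271 (.node 87 .nil .nil) .nil)) (.node 78 (.node 258 (.node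 142 .nil .nil) .nil) (.node 39 (.node 268 .nil .nil) .nil))) (.node 253 (.node 92 (.node 81 (.node 66 .nil .nil) .nil) (.node 222 (.node 108 .nil .nil) .nil)) (.node 291 (.node 87 (.node 240 .nil .nil) .nil) (.node 30 (.node 205 .nil .nil) .nil)))) (.node 96 (.node 284 (.node 193 (.node 233 (.node 172 .nil .nil) .nil) (.node 243 (.node 211 .nil .nil) .nil)) (.node 112 (.node 11 (.node 109 .nil .nil) .nil) (.node 98 (.node 227 .nil .nil) .nil))) (.node 80 (.node 6 (.node 129 (.node 238 .nil .nil) .nil) (.node 242 (.node 126 .nil .nil) .nil)) (.node 59 (.node 37 (.node 113 .nil .nil) .nil) (.node 126 (.node 113 .nil .nil) .nil))))) (.node 20 (.node 212 (.node 61 (.node 288 (.node 203 (.node 21 .nil .nil) (.node 78 .nil .nil)) (.node 185 (.node 93 .nil .nil) .nil)) (.node 160 (.node 175 (.node 227 .nil .nil) .nil) (.node 137 (.node 144 .nil .nil) .nil))) (.node 34 (.node 76 (.node 219 (.node 257 .nil .nil) .nil) (.node 280 (.node 82 .nil .nil) .nil)) (.node 48 (.node 112 (.node 267 .nil .nil) .nil)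 (.node 161 (.node 221 .nil .nil) .nil)))) (.node 156 (.node 151 (.node 9 (.node 113 (.node 160 .nil .nil) .nil) (.node 16 (.node 108 .nil .nil) .nil)) (.node 27 (.node 82 (.node 5 .nil .nil) .nil) (.node 50 (.node 79 .nil .nil) .nil))) (.node 313 (.node 134 (.node 178 (.node 271 .nil .nil) .nil) (.node 159 (.node 148 .nil .nil) .nil)) (.node 101 (.node 128 (.node 55 .nil .nil) .nil) (.node 107 (.node 55 .nil .nil) .nil))))))) (.node 181 (.node 52 (.node 7 (.node 282 (.node 186 (.node 4 (.node 269 (.node 67 .nil .nil) (.node 69 .nil .nil)) (.node 64 (.node 217 .nil .nil) .nil)) (.node 108 (.node 246 (.node 202 .nil .nil) .nil) (.node 223 (.node 206 .nil .nil) .nil))) (.node 10 (.node 94 (.node 61 (.node 199 .nil .nil) .nil) (.node 6 (.node 100 .nil .nil) .nil)) (.node 193 (.node 187 (.node 220 .nil .nil) .nil) (.node 192 (.node 308 .nil .nil) .nil)))) (.node 258 (.node 143 (.node 172 (.node 84 (.node 314 .nil .nil) (.node 40 .nil .nil)) (.node 306 (.node 118 .nil .nil) .nil)) (.node 79 (.node 110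 (.node 80 .nil .nil) .nil) (.node 26 (.node 70 .nil .nil) .nil))) (.node 154 (.node 12 (.node 155 (.node 262 .nil .nil) .nil) (.node 46 (.node 67 .nil .nil) .nil)) (.node 20 (.node 280 (.node 290 .nil .nil) .nil) (.node 126 (.node 20 .nil .nil) .nil))))) (.node 17 (.node 164 (.node 192 (.node 311 (.node 168 (.node 57 .nil .nil) (.node 55 .nil .nil)) (.node 185 (.node 189 .nil .nil) .nil)) (.node 71 (.node 275 (.node 169 .nil .nil) .nil) (.node 19 (.node 34 .nil .nil) .nil))) (.node 83 (.node 174 (.node 40 (.node 292 .nil .nil) .nil) (.node 170 (.node 275 .nil .nil) .nil)) (.node 2 (.node 270 (.node 115 .nil .nil) .nil) (.node 139 (.node 77 .nil .nil) .nil)))) (.node 225 (.node 75 (.node 127 (.node 84 (.node 116 .nil .nil) .nil) (.node 283 (.node 313 .nil .nil) .nil)) (.node 0 (.node 259 (.node 244 .nil .nil) .nil) (.node 213 (.node 131 .nil .nil) .nil))) (.node 155 (.node 51 (.node 169 (.node 289 .nil .nil) .nil) (.node 38 (.node 212 .nil .nil) .nil)) (.node 101 (.node 174 (.node 118 .nil .nil) .nil)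 (.node 245 (.node 51 .nil .nil) .nil)))))) (.node 241 (.node 194 (.node 86 (.node 59 (.node 140 (.node 300 (.node 138 .nil .nil) (.node 288 .nil .nil)) (.node 24 (.node 140 .nil .nil) .nil)) (.node 148 (.node 295 (.node 124 .nil .nil) .nil) (.node 310 (.node 236 .nil .nil) .nil))) (.node 24 (.node 239 (.node 43 (.node 244 .nil .nil) .nil) (.node 0 (.node 155 .nil .nil) .nil)) (.node 206 (.node 287 (.node 283 .nil .nil) .nil) (.node 182 (.node 56 .nil .nil) .nil)))) (.node 209 (.node 203 (.node 197 (.node 141 (.node 189 .nil .nil) .nil) (.node 125 (.node 241 .nil .nil) .nil)) (.node 85 (.node 233 (.node 285 .nil .nil) .nil) (.node 86 (.node 250 .nil .nil) .nil))) (.node 97 (.node 282 (.node 158 (.node 281 .nil .nil) .nil) (.node 260 (.node 277 .nil .nil) .nil)) (.node 261 (.node 216 (.node 64 .nil .nil) .nil) (.node 309 (.node 77 .nil .nil) .nil))))) (.node 290 (.node 171 (.node 64 (.node 296 (.node 294 (.node 232 .nil .nil) (.node 235 .nil .nil)) (.node 313 (.node 307 .nil .nil) .nil)) (.node 221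 (.node 91 (.node 284 .nil .nil) .nil) (.node 229 (.node 143 .nil .nil) .nil))) (.node 44 (.node 230 (.node 201 (.node 293 .nil .nil) .nil) (.node 302 (.node 236 .nil .nil) .nil)) (.node 276 (.node 129 (.node 203 .nil .nil) .nil) (.node 11 (.node 215 .nil .nil) .nil)))) (.node 40 (.node 64 (.node 96 (.node 131 (.node 249 .nil .nil) .nil) (.node 23 (.node 121 .nil .nil) .nil)) (.node 265 (.node 119 (.node 174 .nil .nil) .nil) (.node 156 (.node 168 .nil .nil) .nil))) (.node 190 (.node 176 (.node 17 (.node 247 .nil .nil) .nil) (.node 126 (.node 50 .nil .nil) .nil)) (.node 231 (.node 206 (.node 301 .nil .nil) .nil) (.node 22 (.node 268 .nil .nil) .nil)))))))) (.node 1 (.node 274 (.node 0 (.node 222 (.node 277 (.node 171 (.node 7 (.node 287 (.node 229 .nil .nil) (.node 261 .nil .nil)) (.node 15 (.node 192 .nil .nil) .nil)) (.node 303 (.node 6 (.node 278 .nil .nil) .nil) (.node 86 (.node 71 .nil .nil) .nil))) (.node 176 (.node 154 (.node 28 (.node 45 .nil .nil) .nil) (.node 190 (.node 103 .nil .nil) .nil))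 (.node 306 (.node 111 (.node 161 .nil .nil) .nil) (.node 256 (.node 299 .nil .nil) .nil)))) (.node 244 (.node 121 (.node 9 (.node 60 (.node 162 .nil .nil) (.node 212 .nil .nil)) (.node 81 (.node 224 .nil .nil) .nil)) (.node 196 (.node 138 (.node 262 .nil .nil) .nil) (.node 115 (.node 311 .nil .nil) .nil))) (.node 144 (.node 288 (.node 230 (.node 227 .nil .nil) .nil) (.node 173 (.node 136 .nil .nil) .nil)) (.node 308 (.node 63 (.node 96 .nil .nil) .nil) (.node 14 (.node 255 .nil .nil) .nil))))) (.node 25 (.node 201 (.node 14 (.node 162 (.node 48 (.node 163 .nil .nil) (.node 147 .nil .nil)) (.node 142 (.node 266 .nil .nil) .nil)) (.node 46 (.node 299 (.node 5 .nil .nil) .nil) (.node 283 (.node 239 .nil .nil) .nil))) (.node 85 (.node 205 (.node 141 (.node 299 .nil .nil) .nil) (.node 217 (.node 166 .nil .nil) .nil)) (.node 298 (.node 286 (.node 128 .nil .nil) .nil) (.node 56 (.node 298 .nil .nil) .nil)))) (.node 127 (.node 228 (.node 264 (.node 195 (.node 74 .nil .nil) .nil) (.node 208 (.node 112 .nil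 .nil) .nil)) (.node 62 (.node 98 (.node 111 .nil .nil) .nil) (.node 102 (.node 222 .nil .nil) .nil))) (.node 94 (.node 65 (.node 305 (.node 289 .nil .nil) .nil) (.node 209 (.node 230 .nil .nil) .nil)) (.node 256 (.node 95 (.node 266 .nil .nil) .nil) (.node 102 (.node 148 .nil .nil) .nil)))))) (.node 21 (.node 291 (.node 198 (.node 39 (.node 128 (.node 237 (.node 152 .nil .nil) (.node 294 .nil .nil)) (.node 190 (.node 20 .nil .nil) .nil)) (.node 113 (.node 130 (.node 210 .nil .nil) .nil) (.node 222 (.node 245 .nil .nil) .nil))) (.node 314 (.node 167 (.node 270 (.node 198 .nil .nil) .nil) (.node 106 (.node 144 .nil .nil) .nil)) (.node 133 (.node 202 (.node 245 .nil .nil) .nil) (.node 301 (.node 4 .nil .nil) .nil)))) (.node 5 (.node 145 (.node 97 (.node 7 (.node 150 .nil .nil) .nil) (.node 110 (.node 180 .nil .nil) .nil)) (.node 51 (.node 45 (.node 111 .nil .nil) .nil) (.node 141 (.node 12 .nil .nil) .nil))) (.node 46 (.node 265 (.node 262 (.node 114 .nil .nil) .nil) (.node 27 (.node 13 .nil .nil) .nil))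 (.node 138 (.node 149 (.node 42 .nil .nil) .nil) (.node 241 (.node 302 .nil .nil) .nil))))) (.node 197 (.node 21 (.node 290 (.node 287 (.node 142 (.node 177 .nil .nil) (.node 156 .nil .nil)) (.node 245 (.node 233 .nil .nil) .nil)) (.node 221 (.node 310 (.node 135 .nil .nil) .nil) (.node 267 (.node 133 .nil .nil) .nil))) (.node 117 (.node 170 (.node 279 (.node 6 .nil .nil) .nil) (.node 120 (.node 2 .nil .nil) .nil)) (.node 64 (.node 143 (.node 47 .nil .nil) .nil) (.node 286 (.node 131 .nil .nil) .nil)))) (.node 24 (.node 288 (.node 86 (.node 226 (.node 196 .nil .nil) .nil) (.node 184 (.node 278 .nil .nil) .nil)) (.node 152 (.node 71 (.node 173 .nil .nil) .nil) (.node 166 (.node 223 .nil .nil) .nil))) (.node 191 (.node 75 (.node 276 (.node 205 .nil .nil) .nil) (.node 153 (.node 275 .nil .nil) .nil)) (.node 168 (.node 88 (.node 19 .nil .nil) .nil) (.node 218 (.node 90 .nil .nil) .nil))))))) (.node 10 (.node 296 (.node 51 (.node 111 (.node 60 (.node 52 (.node 296 (.node 92 .nil .nil) (.node 96 .nil .nil))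 (.node 122 (.node 195 .nil .nil) .nil)) (.node 312 (.node 123 (.node 101 .nil .nil) .nil) (.node 264 (.node 72 .nil .nil) .nil))) (.node 27 (.node 41 (.node 75 (.node 220 .nil .nil) .nil) (.node 52 (.node 117 .nil .nil) .nil)) (.node 211 (.node 232 (.node 145 .nil .nil) .nil) (.node 59 (.node 295 .nil .nil) .nil)))) (.node 211 (.node 54 (.node 189 (.node 162 (.node 141 .nil .nil) (.node 314 .nil .nil)) (.node 49 (.node 121 .nil .nil) .nil)) (.node 183 (.node 235 (.node 272 .nil .nil) .nil) (.node 298 (.node 304 .nil .nil) .nil))) (.node 209 (.node 139 (.node 154 (.node 23 .nil .nil) .nil) (.node 68 (.node 43 .nil .nil) .nil)) (.node 47 (.node 304 (.node 169 .nil .nil) .nil) (.node 152 (.node 172 .nil .nil) .nil))))) (.node 2 (.node 127 (.node 240 (.node 305 (.node 251 (.node 35 .nil .nil) (.node 201 .nil .nil)) (.node 124 (.node 235 .nil .nil) .nil)) (.node 81 (.node 219 (.node 61 .nil .nil) .nil) (.node 15 (.node 297 .nil .nil) .nil))) (.node 215 (.node 15 (.node 128 (.node 168 .nil .nil) .nil)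 (.node 274 (.node 122 .nil .nil) .nil)) (.node 246 (.node 36 (.node 229 .nil .nil) .nil) (.node 216 (.node 186 .nil .nil) .nil)))) (.node 165 (.node 14 (.node 277 (.node 251 (.node 106 .nil .nil) .nil) (.node 5 (.node 165 .nil .nil) .nil)) (.node 257 (.node 134 (.node 228 .nil .nil) .nil) (.node 281 (.node 191 .nil .nil) .nil))) (.node 161 (.node 214 (.node 200 (.node 35 .nil .nil) .nil) (.node 243 (.node 264 .nil .nil) .nil)) (.node 289 (.node 186 (.node 55 .nil .nil) .nil) (.node 142 (.node 125 .nil .nil) .nil)))))) (.node 72 (.node 58 (.node 183 (.node 53 (.node 127 (.node 224 (.node 188 .nil .nil) (.node 207 .nil .nil)) (.node 312 (.node 117 .nil .nil) .nil)) (.node 210 (.node 35 (.node 261 .nil .nil) .nil) (.node 39 (.node 269 .nil .nil) .nil))) (.node 65 (.node 219 (.node 93 (.node 79 .nil .nil) .nil) (.node 201 (.node 130 .nil .nil) .nil)) (.node 92 (.node 126 (.node 94 .nil .nil) .nil) (.node 8 (.node 89 .nil .nil) .nil)))) (.node 204 (.node 273 (.node 177 (.node 4 (.node 303 .nil .nil) .nil)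 (.node 54 (.node 180 .nil .nil) .nil)) (.node 188 (.node 4 (.node 270 .nil .nil) .nil) (.node 86 (.node 30 .nil .nil) .nil))) (.node 72 (.node 130 (.node 285 (.node 163 .nil .nil) .nil) (.node 26 (.node 19 .nil .nil) .nil)) (.node 205 (.node 129 (.node 173 .nil .nil) .nil) (.node 169 (.node 246 .nil .nil) .nil))))) (.node 7 (.node 21 (.node 294 (.node 131 (.node 270 (.node 221 .nil .nil) (.node 159 .nil .nil)) (.node 177 (.node 187 .nil .nil) .nil)) (.node 285 (.node 70 (.node 274 .nil .nil) .nil) (.node 218 (.node 76 .nil .nil) .nil))) (.node 44 (.node 134 (.node 259 (.node 202 .nil .nil) .nil) (.node 58 (.node 170 .nil .nil) .nil)) (.node 8 (.node 178 (.node 314 .nil .nil) .nil) (.node 175 (.node 89 .nil .nil) .nil)))) (.node 154 (.node 265 (.node 147 (.node 125 (.node 206 .nil .nil) .nil) (.node 104 (.node 306 .nil .nil) .nil)) (.node 297 (.node 258 (.node 209 .nil .nil) .nil) (.node 206 (.node 108 .nil .nil) .nil))) (.node 280 (.node 19 (.node 61 (.node 122 .nil .nil) .nil) (.node 146 (.node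 312 .nil .nil) .nil)) (.node 202 (.node 238 (.node 286 .nil .nil) .nil) (.node 229 (.node 160 .nil .nil) .nil))))))))) (.node 3 (.node 1 (.node 135 (.node 161 (.node 297 (.node 83 (.node 123 (.node 74 (.node 68 (.node 296 .nil .nil) (.node 197 .nil .nil)) (.node 247 (.node 8 .nil .nil) .nil)) (.node 23 (.node 53 (.node 69 .nil .nil) .nil) (.node 29 (.node 85 .nil .nil) .nil))) (.node 16 (.node 31 (.node 134 (.node 256 .nil .nil) .nil) (.node 48 (.node 29 .nil .nil) .nil)) (.node 65 (.node 99 (.node 153 .nil .nil) .nil) (.node 198 (.node 31 .nil .nil) .nil)))) (.node 76 (.node 99 (.node 208 (.node 159 (.node 20 .nil .nil) (.node 140 .nil .nil)) (.node 78 (.node 123 .nil .nil) .nil)) (.node 42 (.node 146 (.node 133 .nil .nil) .nil) (.node 87 (.node 37 .nil .nil) .nil))) (.node 218 (.node 200 (.node 28 (.node 105 .nil .nil) .nil) (.node 242 (.node 280 .nil .nil) .nil)) (.node 63 (.node 1 (.node 216 .nil .nil) .nil) (.node 219 (.node 194 .nil .nil) .nil))))) (.node 99 (.node 94 (.node 269 (.node 90 (.node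 239 (.node 164 .nil .nil) (.node 181 .nil .nil)) (.node 257 (.node 138 .nil .nil) .nil)) (.node 258 (.node 114 (.node 136 .nil .nil) .nil) (.node 158 (.node 259 .nil .nil) .nil))) (.node 301 (.node 167 (.node 253 (.node 82 .nil .nil) .nil) (.node 250 (.node 275 .nil .nil) .nil)) (.node 118 (.node 45 (.node 303 .nil .nil) .nil) (.node 112 (.node 291 .nil .nil) .nil)))) (.node 234 (.node 228 (.node 116 (.node 2 (.node 280 .nil .nil) .nil) (.node 208 (.node 88 .nil .nil) .nil)) (.node 179 (.node 67 (.node 120 .nil .nil) .nil) (.node 260 (.node 8 .nil .nil) .nil))) (.node 234 (.node 17 (.node 95 (.node 224 .nil .nil) .nil) (.node 200 (.node 267 .nil .nil) .nil)) (.node 207 (.node 194 (.node 40 .nil .nil) .nil) (.node 120 (.node 289 .nil .nil) .nil)))))) (.node 234 (.node 256 (.node 66 (.node 38 (.node 199 (.node 106 (.node 191 .nil .nil) (.node 229 .nil .nil)) (.node 122 (.node 157 .nil .nil) .nil)) (.node 78 (.node 43 (.node 186 .nil .nil) .nil) (.node 179 (.node 297 .nil .nil) .nil))) (.node 119 (.node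 89 (.node 270 (.node 132 .nil .nil) .nil) (.node 101 (.node 239 .nil .nil) .nil)) (.node 198 (.node 107 (.node 287 .nil .nil) .nil) (.node 308 (.node 248 .nil .nil) .nil)))) (.node 18 (.node 33 (.node 11 (.node 304 (.node 224 .nil .nil) .nil) (.node 196 (.node 61 .nil .nil) .nil)) (.node 42 (.node 307 (.node 225 .nil .nil) .nil) (.node 135 (.node 227 .nil .nil) .nil))) (.node 173 (.node 30 (.node 123 (.node 4 .nil .nil) .nil) (.node 180 (.node 62 .nil .nil) .nil)) (.node 59 (.node 7 (.node 230 .nil .nil) .nil) (.node 176 (.node 302 .nil .nil) .nil))))) (.node 59 (.node 73 (.node 193 (.node 3 (.node 95 (.node 242 .nil .nil) (.node 281 .nil .nil)) (.node 182 (.node 185 .nil .nil) .nil)) (.node 116 (.node 237 (.node 260 .nil .nil) .nil) (.node 165 (.node 255 .nil .nil) .nil))) (.node 276 (.node 308 (.node 240 (.node 291 .nil .nil) .nil) (.node 18 (.node 34 .nil .nil) .nil)) (.node 148 (.node 109 (.node 296 .nil .nil) .nil) (.node 60 (.node 41 .nil .nil) .nil)))) (.node 83 (.node 49 (.node 44 (.node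 78 (.node 302 .nil .nil) .nil) (.node 31 (.node 184 .nil .nil) .nil)) (.node 84 (.node 65 (.node 264 .nil .nil) .nil) (.node 155 (.node 243 .nil .nil) .nil))) (.node 53 (.node 116 (.node 143 (.node 309 .nil .nil) .nil) (.node 77 (.node 171 .nil .nil) .nil)) (.node 100 (.node 76 (.node 240 .nil .nil) .nil) (.node 34 (.node 183 .nil .nil) .nil))))))) (.node 93 (.node 137 (.node 12 (.node 47 (.node 175 (.node 252 (.node 305 (.node 98 .nil .nil) (.node 295 .nil .nil)) (.node 45 (.node 157 .nil .nil) .nil)) (.node 177 (.node 150 (.node 231 .nil .nil) .nil) (.node 265 (.node 13 .nil .nil) .nil))) (.node 309 (.node 74 (.node 215 (.node 203 .nil .nil) .nil) (.node 67 (.node 231 .nil .nil) .nil)) (.node 54 (.node 118 (.node 179 .nil .nil) .nil) (.node 305 (.node 130 .nil .nil) .nil)))) (.node 11 (.node 33 (.node 156 (.node 145 (.node 279 .nil .nil) (.node 314 .nil .nil)) (.node 291 (.node 23 .nil .nil) .nil)) (.node 88 (.node 187 (.node 139 .nil .nil) .nil) (.node 151 (.node 228 .nil .nil) .nil))) (.node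 12 (.node 71 (.node 12 (.node 311 .nil .nil) .nil) (.node 173 (.node 95 .nil .nil) .nil)) (.node 151 (.node 79 (.node 114 .nil .nil) .nil) (.node 218 (.node 41 .nil .nil) .nil))))) (.node 260 (.node 17 (.node 29 (.node 254 (.node 215 (.node 46 .nil .nil) (.node 288 .nil .nil)) (.node 257 (.node 175 .nil .nil) .nil)) (.node 51 (.node 124 (.node 22 .nil .nil) .nil) (.node 84 (.node 82 .nil .nil) .nil))) (.node 251 (.node 194 (.node 223 (.node 210 .nil .nil) .nil) (.node 24 (.node 299 .nil .nil) .nil)) (.node 260 (.node 34 (.node 215 .nil .nil) .nil) (.node 230 (.node 36 .nil .nil) .nil)))) (.node 263 (.node 145 (.node 234 (.node 271 (.node 247 .nil .nil) .nil) (.node 208 (.node 259 .nil .nil) .nil)) (.node 142 (.node 178 (.node 249 .nil .nil) .nil) (.node 58 (.node 226 .nil .nil) .nil))) (.node 37 (.node 50 (.node 114 (.node 241 .nil .nil) .nil) (.node 210 (.node 120 .nil .nil) .nil)) (.node 220 (.node 255 (.node 187 .nil .nil) .nil) (.node 223 (.node 193 .nil .nil) .nil)))))) (.node 279 (.node 58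 (.node 68 (.node 67 (.node 49 (.node 8 (.node 99 .nil .nil) (.node 200 .nil .nil)) (.node 191 (.node 129 .nil .nil) .nil)) (.node 220 (.node 271 (.node 201 .nil .nil) .nil) (.node 63 (.node 162 .nil .nil) .nil))) (.node 57 (.node 14 (.node 258 (.node 100 .nil .nil) .nil) (.node 144 (.node 277 .nil .nil) .nil)) (.node 147 (.node 49 (.node 158 .nil .nil) .nil) (.node 150 (.node 286 .nil .nil) .nil)))) (.node 18 (.node 285 (.node 109 (.node 240 (.node 156 .nil .nil) .nil) (.node 211 (.node 38 .nil .nil) .nil)) (.node 281 (.node 184 (.node 66 .nil .nil) .nil) (.node 182 (.node 308 .nil .nil) .nil))) (.node 248 (.node 73 (.node 132 (.node 57 .nil .nil) .nil) (.node 105 (.node 295 .nil .nil) .nil)) (.node 137 (.node 204 (.node 52 .nil .nil) .nil) (.node 233 (.node 150 .nil .nil) .nil))))) (.node 71 (.node 242 (.node 54 (.node 41 (.node 267 (.node 79 .nil .nil) (.node 89 .nil .nil)) (.node 133 (.node 261 .nil .nil) .nil)) (.node 273 (.node 286 (.node 46 .nil .nil) .nil) (.node 261 (.node 56 .nil .nil) .nil)))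 (.node 250 (.node 267 (.node 268 (.node 119 .nil .nil) .nil) (.node 190 (.node 40 .nil .nil) .nil)) (.node 107 (.node 134 (.node 241 .nil .nil) .nil) (.node 52 (.node 306 .nil .nil) .nil)))) (.node 10 (.node 148 (.node 73 (.node 250 (.node 170 .nil .nil) .nil) (.node 266 (.node 283 .nil .nil) .nil)) (.node 313 (.node 274 (.node 18 .nil .nil) .nil) (.node 292 (.node 3 .nil .nil) .nil))) (.node 74 (.node 152 (.node 294 (.node 184 .nil .nil) .nil) (.node 138 (.node 190 .nil .nil) .nil)) (.node 100 (.node 178 (.node 151 .nil .nil) .nil) (.node 204 (.node 116 .nil .nil) .nil)))))))) (.node 147 (.node 112 (.node 293 (.node 149 (.node 273 (.node 27 (.node 304 (.node 32 (.node 205 .nil .nil) (.node 307 .nil .nil)) (.node 25 (.node 99 .nil .nil) .nil)) (.node 298 (.node 119 (.node 192 .nil .nil) .nil) (.node 44 (.node 282 .nil .nil) .nil))) (.node 182 (.node 37 (.node 263 (.node 185 .nil .nil) .nil) (.node 66 (.node 284 .nil .nil) .nil)) (.node 211 (.node 212 (.node 83 .nil .nil) .nil) (.node 29 (.node 147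 .nil .nil) .nil)))) (.node 254 (.node 276 (.node 9 (.node 238 (.node 90 .nil .nil) (.node 249 .nil .nil)) (.node 81 (.node 263 .nil .nil) .nil)) (.node 243 (.node 35 (.node 104 .nil .nil) .nil) (.node 232 (.node 309 .nil .nil) .nil))) (.node 136 (.node 282 (.node 273 (.node 25 .nil .nil) .nil) (.node 252 (.node 272 .nil .nil) .nil)) (.node 41 (.node 310 (.node 44 .nil .nil) .nil) (.node 53 (.node 22 .nil .nil) .nil))))) (.node 39 (.node 38 (.node 179 (.node 254 (.node 104 (.node 163 .nil .nil) (.node 225 .nil .nil)) (.node 246 (.node 23 .nil .nil) .nil)) (.node 237 (.node 31 (.node 48 .nil .nil) .nil) (.node 203 (.node 124 .nil .nil) .nil))) (.node 42 (.node 137 (.node 140 (.node 82 .nil .nil) .nil) (.node 69 (.node 233 .nil .nil) .nil)) (.node 213 (.node 105 (.node 195 .nil .nil) .nil) (.node 103 (.node 93 .nil .nil) .nil)))) (.node 77 (.node 130 (.node 30 (.node 145 (.node 300 .nil .nil) .nil) (.node 226 (.node 253 .nil .nil) .nil)) (.node 307 (.node 207 (.node 254 .nil .nil) .nil) (.node 118 (.node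 297 .nil .nil) .nil))) (.node 166 (.node 114 (.node 162 (.node 289 .nil .nil) .nil) (.node 164 (.node 304 .nil .nil) .nil)) (.node 9 (.node 97 (.node 310 .nil .nil) .nil) (.node 231 (.node 110 .nil .nil) .nil)))))) (.node 164 (.node 95 (.node 154 (.node 174 (.node 28 (.node 300 (.node 310 .nil .nil) (.node 39 .nil .nil)) (.node 48 (.node 80 .nil .nil) .nil)) (.node 84 (.node 73 (.node 265 .nil .nil) .nil) (.node 2 (.node 182 .nil .nil) .nil))) (.node 274 (.node 219 (.node 165 (.node 66 .nil .nil) .nil) (.node 293 (.node 113 .nil .nil) .nil)) (.node 255 (.node 146 (.node 202 .nil .nil) .nil) (.node 68 (.node 103 .nil .nil) .nil)))) (.node 70 (.node 43 (.node 97 (.node 14 (.node 93 .nil .nil) .nil) (.node 284 (.node 279 .nil .nil) .nil)) (.node 57 (.node 275 (.node 208 .nil .nil) .nil) (.node 253 (.node 290 .nil .nil) .nil))) (.node 255 (.node 47 (.node 25 (.node 292 .nil .nil) .nil) (.node 198 (.node 271 .nil .nil) .nil)) (.node 187 (.node 69 (.node 106 .nil .nil) .nil) (.node 70 (.node 214 .nil .nil)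 .nil))))) (.node 167 (.node 166 (.node 165 (.node 195 (.node 223 (.node 38 .nil .nil) (.node 1 .nil .nil)) (.node 109 (.node 98 .nil .nil) .nil)) (.node 139 (.node 159 (.node 312 .nil .nil) .nil) (.node 153 (.node 245 .nil .nil) .nil))) (.node 129 (.node 149 (.node 171 (.node 180 .nil .nil) .nil) (.node 311 (.node 140 .nil .nil) .nil)) (.node 125 (.node 146 (.node 220 .nil .nil) .nil) (.node 307 (.node 294 .nil .nil) .nil)))) (.node 170 (.node 214 (.node 63 (.node 74 (.node 149 .nil .nil) .nil) (.node 117 (.node 69 .nil .nil) .nil)) (.node 124 (.node 237 (.node 22 .nil .nil) .nil) (.node 50 (.node 249 .nil .nil) .nil))) (.node 62 (.node 268 (.node 54 (.node 204 .nil .nil) .nil) (.node 158 (.node 214 .nil .nil) .nil)) (.node 262 (.node 199 (.node 47 .nil .nil) .nil) (.node 248 (.node 300 .nil .nil) .nil))))))) (.node 91 (.node 111 (.node 110 (.node 29 (.node 88 (.node 167 (.node 195 (.node 217 .nil .nil) (.node 290 .nil .nil)) (.node 155 (.node 222 .nil .nil) .nil)) (.node 160 (.node 146 (.node 269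 .nil .nil) .nil) (.node 174 (.node 164 .nil .nil) .nil))) (.node 180 (.node 139 (.node 306 (.node 120 .nil .nil) .nil) (.node 11 (.node 117 .nil .nil) .nil)) (.node 3 (.node 157 (.node 19 .nil .nil) .nil) (.node 90 (.node 277 .nil .nil) .nil)))) (.node 301 (.node 25 (.node 28 (.node 135 (.node 17 .nil .nil) .nil) (.node 3 (.node 115 .nil .nil) .nil)) (.node 109 (.node 1 (.node 153 .nil .nil) .nil) (.node 262 (.node 100 .nil .nil) .nil))) (.node 236 (.node 80 (.node 256 (.node 102 .nil .nil) .nil) (.node 151 (.node 32 .nil .nil) .nil)) (.node 137 (.node 94 (.node 251 .nil .nil) .nil) (.node 191 (.node 216 .nil .nil) .nil))))) (.node 136 (.node 10 (.node 72 (.node 15 (.node 16 (.node 176 .nil .nil) (.node 171 .nil .nil)) (.node 178 (.node 10 .nil .nil) .nil)) (.node 160 (.node 60 (.node 227 .nil .nil) .nil) (.node 305 (.node 197 .nil .nil) .nil))) (.node 163 (.node 102 (.node 303 (.node 181 .nil .nil) .nil) (.node 26 (.node 13 .nil .nil) .nil)) (.node 16 (.node 244 (.node 153 .nil .nil) .nil) (.node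 83 (.node 273 .nil .nil) .nil)))) (.node 259 (.node 298 (.node 50 (.node 302 (.node 42 .nil .nil) .nil) (.node 176 (.node 248 .nil .nil) .nil)) (.node 185 (.node 196 (.node 200 .nil .nil) .nil) (.node 172 (.node 221 .nil .nil) .nil))) (.node 143 (.node 36 (.node 199 (.node 35 .nil .nil) .nil) (.node 60 (.node 5 .nil .nil) .nil)) (.node 269 (.node 36 (.node 214 .nil .nil) .nil) (.node 183 (.node 103 .nil .nil) .nil)))))) (.node 167 (.node 62 (.node 55 (.node 115 (.node 33 (.node 175 (.node 188 .nil .nil) (.node 133 .nil .nil)) (.node 58 (.node 285 .nil .nil) .nil)) (.node 292 (.node 292 (.node 110 .nil .nil) .nil) (.node 188 (.node 33 .nil .nil) .nil))) (.node 299 (.node 276 (.node 263 (.node 248 .nil .nil) .nil) (.node 234 (.node 228 .nil .nil) .nil)) (.node 65 (.node 32 (.node 278 .nil .nil) .nil) (.node 247 (.node 283 .nil .nil) .nil)))) (.node 242 (.node 135 (.node 132 (.node 238 (.node 254 .nil .nil) .nil) (.node 43 (.node 72 .nil .nil) .nil)) (.node 15 (.node 97 (.node 105 .nil .nil) .nil) (.node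 207 (.node 161 .nil .nil) .nil))) (.node 13 (.node 63 (.node 88 (.node 235 .nil .nil) .nil) (.node 132 (.node 246 .nil .nil) .nil)) (.node 141 (.node 213 (.node 89 .nil .nil) .nil) (.node 16 (.node 119 .nil .nil) .nil))))) (.node 122 (.node 278 (.node 131 (.node 85 (.node 77 (.node 264 .nil .nil) (.node 266 .nil .nil)) (.node 108 (.node 237 .nil .nil) .nil)) (.node 13 (.node 75 (.node 236 .nil .nil) .nil) (.node 158 (.node 102 .nil .nil) .nil))) (.node 62 (.node 163 (.node 32 (.node 107 .nil .nil) .nil) (.node 73 (.node 132 .nil .nil) .nil)) (.node 150 (.node 295 (.node 293 .nil .nil) .nil) (.node 192 (.node 104 .nil .nil) .nil)))) (.node 33 (.node 210 (.node 181 (.node 186 (.node 217 .nil .nil) .nil) (.node 18 (.node 268 .nil .nil) .nil)) (.node 300 (.node 53 (.node 293 .nil .nil) .nil) (.node 199 (.node 309 .nil .nil) .nil))) (.node 81 (.node 287 (.node 22 (.node 196 .nil .nil) .nil) (.node 181 (.node 226 .nil .nil) .nil)) (.node 189 (.node 243 (.node 91 .nil .nil) .nil) (.node 249 (.node 87 .nil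 .nil) .nil)))))))))))

end Cfsg.Agent.Lib.KnownSimple.MultM.J2L
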